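import Groth.Agent.LC.GorGlobal
import Mathlib.LinearAlgebra.Dual.Lemmas

/-!
# Duality over Gorenstein rings of dimension at most one
-/

set_option autoImplicit false

universe u

open CategoryTheory IsLocalRing

namespace Groth.Agent.GorRefl

open Groth.Agent.LC

theorem hasInjectiveDimensionLE (A : Type u) [CommRing A] [hG : LocCoh.IsGorensteinRing A] (D : ℕ)
    (hD : ringKrullDim A ≤ (D : WithBot ℕ∞)) : HasInjectiveDimensionLE (ModuleCat.of A A) D := by
  refine Groth.Agent.CAlgGlobalDim.hasInjectiveDimensionLE_of_ext_cyclic D _ fun J => ?_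
  refine Module.subsingleton_of_localization_maximal
    (fun (m : Ideal A) _ => LocalizedModule m.primeCompl
      (Abelian.Ext (ModuleCat.of A (A ⧸ J)) (ModuleCat.of A A) (D + 1)))
    (fun (m : Ideal A) _ => LocalizedModule.mkLinearMap m.primeCompl _) fun m hm => ?_
  haveI : m.IsPrime := hm.isPrime
  haveI : IsNoetherianRing (Localization.AtPrime m) :=
    IsLocalization.isNoetherianRing m.primeCompl _ inferInstance
  haveI := hG.isGorensteinLocalRing_localization m
  obtain ⟨d, hd, -, hv⟩ := gorenstein_basic (R := Localization.AtPrime m)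
  rw [IsLocalization.AtPrime.ringKrullDim_eq_height m (Localization.AtPrime m)] at hd
  have hdD : d ≤ D := by
    have h1 := ((ringKrullDim_le_iff_height_le _).1 hD) hm.isPrime
    rw [hd] at h1
    exact_mod_cast h1
  obtain ⟨e⟩ := exists_extLoc_ring m.primeCompl (A ⧸ J) (D + 1)
  haveI := hv (LocalizedModule m.primeCompl (A ⧸ J)) (D + 1) (by omega)
  exact e.toEquiv.subsingleton

variable {S : Type u} [CommRing S] [LocCoh.IsGorensteinRing S]

/-- `Ext¹(M, S) = 0` for a submodule `M` of a finite free module. -/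
theorem subsingleton_ext_one (hS : ringKrullDim S ≤ 1) {M : Type u} [AddCommGroup M] [Module S M]
    {n : ℕ} (i : M →ₗ[S] Fin n → S) (hi : Function.Injective i) :
    Subsingleton (Abelian.Ext (ModuleCat.of S M) (ModuleCat.of S S) 1) := by
  haveI := hasInjectiveDimensionLE S 1 (by exact_mod_cast hS)
  let T : ShortComplex (ModuleCat.{u} S) := ShortComplex.mk (X₁ := ModuleCat.of S M)
    (X₂ := ModuleCat.of S (Fin n → S)) (X₃ := ModuleCat.of S ((Fin n → S) ⧸ LinearMap.range i))
    (ModuleCat.ofHom i) (ModuleCat.ofHom (LinearMap.range i).mkQ)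
    (ModuleCat.hom_ext (LinearMap.ext fun z => (Submodule.Quotient.mk_eq_zero _).2 ⟨z, rfl⟩))
  have hT : T.ShortExact :=
    { exact := (ShortComplex.ShortExact.moduleCat_exact_iff_function_exact _).2
        (LinearMap.exact_map_mkQ_range i)
      mono_f := (ModuleCat.mono_iff_injective _).2 hi
      epi_g := (ModuleCat.epi_iff_surjective _).2 (Submodule.mkQ_surjective _) }
  haveI := subsingleton_ext_free (R := S) n 0 (ModuleCat.of S S)
  refine subsingleton_of_forall_eq 0 fun e => ?_
  obtain ⟨w, hw⟩ := Abelian.Ext.contravariant_sequence_exact₁ hT (ModuleCat.of S S) e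
    (n₁ := 2) (by norm_num) (Abelian.Ext.eq_zero_of_hasInjectiveDimensionLT _ 2 le_rfl)
  rw [← hw, @Subsingleton.elim _ ‹_› w 0, Abelian.Ext.comp_zero]

/-- Linear forms extend along an injection with torsionless cokernel. -/
theorem dualMap_surjective (hS : ringKrullDim S ≤ 1) {N F : Type u} [AddCommGroup N] [Module S N]
    [AddCommGroup F] [Module S F] (f : N →ₗ[S] F) (hf : Function.Injective f) {k : ℕ}
    (ψ : F →ₗ[S] Fin k → S) (hψ : LinearMap.ker ψ = LinearMap.range f) : Function.Surjective f.dualMap := by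
  intro φ
  let T : ShortComplex (ModuleCat.{u} S) := ShortComplex.mk (X₁ := ModuleCat.of S N)
    (X₂ := ModuleCat.of S F) (X₃ := ModuleCat.of S (F ⧸ LinearMap.range f))
    (ModuleCat.ofHom f) (ModuleCat.ofHom (LinearMap.range f).mkQ)
    (ModuleCat.hom_ext (LinearMap.ext fun z => (Submodule.Quotient.mk_eq_zero _).2 ⟨z, rfl⟩))
  have hT : T.ShortExact :=
    { exact := (ShortComplex.ShortExact.moduleCat_exact_iff_function_exact _).2
        (LinearMap.exact_map_mkQ_range f)
      mono_f := (ModuleCat.mono_iff_injective _).2 hf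
      epi_g := (ModuleCat.epi_iff_surjective _).2 (Submodule.mkQ_surjective _) }
  have h1 := subsingleton_ext_one hS (Submodule.liftQ (LinearMap.range f) ψ hψ.ge) (by
    rw [← LinearMap.ker_eq_bot, Submodule.ker_liftQ, hψ, ← LinearMap.le_ker_iff_map, Submodule.ker_mkQ])
  obtain ⟨w, hw⟩ := Abelian.Ext.contravariant_sequence_exact₁ hT (ModuleCat.of S S)
    (Abelian.Ext.mk₀ (ModuleCat.ofHom φ)) (n₁ := 1) (by norm_num) (@Subsingleton.elim _ h1 _ _)
  obtain ⟨ω, rfl⟩ := (Abelian.Ext.mk₀_bijective _ _).2 w
  rw [Abelian.Ext.mk₀_comp_mk₀] at hw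
  exact ⟨ω.hom, congrArg ModuleCat.Hom.hom ((Abelian.Ext.mk₀_bijective _ _).1 hw)⟩

omit [LocCoh.IsGorensteinRing S] in
/-- A torsionless finite module embeds in a finite free module. -/
theorem exists_embedding [IsNoetherianRing S] {M : Type u} [AddCommGroup M] [Module S M] [Module.Finite S M]
    (h : Function.Injective (Module.Dual.eval S M)) :
    ∃ (n : ℕ) (i : M →ₗ[S] Fin n → S), Function.Injective i := by
  obtain ⟨n, p, hp⟩ := Module.Finite.exists_fin' S (Module.Dual S M)
  refine ⟨n, LinearMap.pi fun j => p (Pi.single j 1), ?_⟩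
  rw [injective_iff_map_eq_zero]
  intro x hx
  refine h ?_
  rw [map_zero]
  ext φ
  obtain ⟨v, rfl⟩ := hp φ
  have hv : p v = ∑ j, v j • p (Pi.single j 1) := by
    conv_lhs => rw [pi_eq_sum_univ' v]
    rw [map_sum]
    exact Finset.sum_congr rfl fun j _ => by rw [map_smul]
  show p v x = 0
  rw [hv, LinearMap.sum_apply]
  exact Finset.sum_eq_zero fun j _ => by rw [LinearMap.smul_apply, show p (Pi.single j 1) x = 0 from congrFun hx j, smul_zero]

/-- Torsionless finite modules are reflexive. -/
theorem bijective_eval (hS : ringKrullDim S ≤ 1) {M : Type u} [AddCommGroup M] [Module S M] [Module.Finite S M]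
    (h : Function.Injective (Module.Dual.eval S M)) : Function.Bijective (Module.Dual.eval S M) := by
  obtain ⟨n, π, hπ⟩ := Module.Finite.exists_fin' S M
  obtain ⟨k, g, hg⟩ := Module.Finite.exists_fin' S (LinearMap.ker π)
  let ψ : Module.Dual S (Fin n → S) →ₗ[S] Fin k → S :=
    LinearMap.pi fun j => (Module.Dual.eval S (Fin n → S) ((LinearMap.ker π).subtype (g (Pi.single j 1))))
  have hψ : LinearMap.ker ψ = LinearMap.range π.dualMap := by
    ext φ
    rw [LinearMap.mem_ker]
    constructor
    · intro h0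
      have hk : LinearMap.ker π ≤ LinearMap.ker φ := by
        intro x hx
        obtain ⟨v, hv⟩ := hg ⟨x, hx⟩
        have hx' : x = ∑ j, v j • (g (Pi.single j 1) : Fin n → S) := by
          have e : g v = ∑ j, v j • g (Pi.single j 1) := by
            conv_lhs => rw [pi_eq_sum_univ' v]
            rw [map_sum]
            exact Finset.sum_congr rfl fun j _ => by rw [map_smul]
          have e' := congrArg Subtype.val (hv.symm.trans e)
          simpa [Submodule.coe_sum] using e'
        rw [LinearMap.mem_ker, hx', map_sum]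
        exact Finset.sum_eq_zero fun j _ => by
          rw [map_smul, show φ (g (Pi.single j 1) : Fin n → S) = 0 from congrFun h0 j, smul_zero]
      refine ⟨(Submodule.liftQ _ φ hk) ∘ₗ (π.quotKerEquivOfSurjective hπ).symm.toLinearMap, ?_⟩
      refine LinearMap.ext fun v => ?_
      show Submodule.liftQ _ φ hk ((π.quotKerEquivOfSurjective hπ).symm (π v)) = φ v
      rw [show (π.quotKerEquivOfSurjective hπ).symm (π v) = Submodule.Quotient.mk v from
        (π.quotKerEquivOfSurjective hπ).symm_apply_eq.2 rfl, Submodule.liftQ_apply]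
    · rintro ⟨χ, rfl⟩
      ext j
      show χ (π (g (Pi.single j 1) : Fin n → S)) = 0
      rw [show π (g (Pi.single j 1) : Fin n → S) = 0 from (g (Pi.single j 1)).2, map_zero]
  have hs := dualMap_surjective hS π.dualMap (LinearMap.dualMap_injective_of_surjective hπ) ψ hψ
  refine ⟨h, fun ξ => ?_⟩
  obtain ⟨ω, rfl⟩ := hs ξ
  obtain ⟨v, rfl⟩ := (Module.bijective_dual_eval S (Fin n → S)).2 ω
  exact ⟨π v, rfl⟩

end Groth.Agent.GorRefl
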